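import Groth.Agent.Grpsch.AbEtale
import Mathlib.RingTheory.Filtration

/-!
# Density of the `p`-power torsion in characteristic `p`

`K581.TorsDense.isIso_of_frob`: `X` a group over a field `k` with `(p : k) = 0`, `X` integral and locally
Noetherian; a closed subscheme of `X` through which the kernels of all `[p^m]` factor is everything
(`[p]` kills the cotangent space at the origin, so the kernel of `[p^m]` contains the infinitesimal
neighbourhood of order `2^m` of the origin).
-/

set_option autoImplicit false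
universe u

open CategoryTheory Limits MonoidalCategory CartesianMonoidalCategory MonObj AlgebraicGeometry

namespace K581.TorsDense

open Groth.Agent.Grpsch.AbStalk Groth.Agent.Grpsch.AbTangent Groth.Agent.Grpsch.AbEtale

variable {K : Type u} [Field K] {X : Over (Spec (.of K))}

theorem ev_eq_zero_iff (x : 𝟙_ (Over (Spec (.of K))) ⟶ X)
    (y : X.left.presheaf.stalk (pt x)) :
    (ev x).hom y = 0 ↔ y ∈ IsLocalRing.maximalIdeal (X.left.presheaf.stalk (pt x)) := by
  have h1 : IsLocalHom (ev x).hom := inferInstanceAs (IsLocalHom (Scheme.stalkClosedPointTo (R := .of K) x.left).hom)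
  rw [IsLocalRing.mem_maximalIdeal, mem_nonunits_iff, ← isUnit_map_iff (ev x).hom, isUnit_iff_ne_zero, not_not]

/-- an endomorphism fixing a rational point acts on the stalk. -/
theorem exists_stalkEnd (x : 𝟙_ (Over (Spec (.of K))) ⟶ X) (f : X ⟶ X) (hf : x ≫ f = x) :
    ∃ φ : X.left.presheaf.stalk (pt x) ⟶ X.left.presheaf.stalk (pt x),
      Spec.map φ ≫ X.left.fromSpecStalk (pt x) = X.left.fromSpecStalk (pt x) ≫ f.left := by
  obtain ⟨⟨y, a, ha⟩, hya⟩ := (SpecToEquivOfLocalRing X.left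
    (X.left.presheaf.stalk (pt x))).symm.surjective (X.left.fromSpecStalk (pt x) ≫ f.left)
  simp only [SpecToEquivOfLocalRing_symm_apply] at hya
  have hy : y = pt x := by
    rw [← map_fromSpecStalk_closedPoint y a, hya]
    have h0 : (X.left.fromSpecStalk (pt x) ≫ f.left) (IsLocalRing.closedPoint (X.left.presheaf.stalk (pt x))) =
        f.left (X.left.fromSpecStalk (pt x) (IsLocalRing.closedPoint (X.left.presheaf.stalk (pt x)))) := rfl
    rw [h0, Scheme.fromSpecStalk_closedPoint]
    have h1 : f.left (pt x) = (x ≫ f).left (IsLocalRing.closedPoint K) := rfl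
    rw [h1, hf]
  subst hy
  exact ⟨a, hya⟩

/-- dual number valued algebra maps detect `𝔪²`. -/
theorem exists_dual (x : 𝟙_ (Over (Spec (.of K))) ⟶ X) (y : X.left.presheaf.stalk (pt x))
    (hy : (ev x).hom y = 0)
    (hy2 : y ∉ IsLocalRing.maximalIdeal (X.left.presheaf.stalk (pt x)) ^ 2) :
    ∃ (g : X.left.presheaf.stalk (pt x) ⟶ CommRingCat.of (TrivSqZeroExt K K))
      (_ : kAlg X.hom (pt x) ≫ g = CommRingCat.ofHom (algebraMap K (TrivSqZeroExt K K))),
      g ≫ CommRingCat.ofHom (TrivSqZeroExt.fstHom K K K).toRingHom = ev x ∧ (g.hom y).snd ≠ 0 := by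
  let R := X.left.presheaf.stalk (pt x)
  let m := IsLocalRing.maximalIdeal R
  let alg : Algebra K R := (kAlg X.hom (pt x)).hom.toAlgebra
  have hev : ∀ r : K, (ev x).hom (algebraMap K R r) = r := fun r => congr(($(kAlg_ev x)).hom r)
  let S : Submodule K R := (m ^ 2).restrictScalars K ⊔ Submodule.span K {1}
  have hyS : y ∉ S := by
    intro h
    obtain ⟨s, hs, t, ht, hst⟩ := Submodule.mem_sup.1 h
    obtain ⟨c, rfl⟩ := Submodule.mem_span_singleton.1 ht
    have hs' : s ∈ m ^ 2 := hs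
    have hs1 : (ev x).hom s = 0 := (ev_eq_zero_iff x s).2 (Ideal.pow_le_self two_ne_zero hs')
    have h1 := congrArg (ev x).hom hst
    rw [map_add, hs1, zero_add, hy, Algebra.smul_def, _root_.mul_one] at h1
    have hc : c = 0 := (hev c).symm.trans h1
    apply hy2
    rw [← hst, hc, zero_smul, add_zero]
    exact hs'
  obtain ⟨ℓ, hℓS, hℓ⟩ : ∃ ℓ : R →ₗ[K] K, S ≤ LinearMap.ker ℓ ∧ ℓ y ≠ 0 := by
    obtain ⟨ℓ, h1, h2⟩ := Submodule.exists_le_ker_of_notMem hyS
    exact ⟨ℓ, h2, h1⟩
  have hℓ2 : ∀ z ∈ m ^ 2, ℓ z = 0 := fun z hz =>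
    hℓS (Submodule.mem_sup_left (show z ∈ (m ^ 2).restrictScalars K from hz))
  have hℓ1 : ∀ r : K, ℓ (algebraMap K R r) = 0 := fun r => by
    have h1 : (1 : R) ∈ S := Submodule.mem_sup_right (Submodule.mem_span_singleton_self 1)
    rw [Algebra.algebraMap_eq_smul_one, map_smul, show ℓ 1 = 0 from hℓS h1, smul_zero]
  have hsplit : ∀ z : R, z - algebraMap K R ((ev x).hom z) ∈ m := fun z => by
    rw [← ev_eq_zero_iff, map_sub, hev, sub_self]
  have hmul : ∀ z w : R, ℓ (z * w) = (ev x).hom z * ℓ w + (ev x).hom w * ℓ z := by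
    intro z w
    have h1 : (z - algebraMap K R ((ev x).hom z)) * (w - algebraMap K R ((ev x).hom w)) ∈ m ^ 2 := by
      rw [pow_two]
      exact Ideal.mul_mem_mul (hsplit z) (hsplit w)
    have h2 := hℓ2 _ h1
    have h3 : (z - algebraMap K R ((ev x).hom z)) * (w - algebraMap K R ((ev x).hom w)) =
        z * w - (ev x).hom z • w - (ev x).hom w • z +
          algebraMap K R ((ev x).hom z * (ev x).hom w) := by
      rw [map_mul, Algebra.smul_def, Algebra.smul_def]
      ring
    rw [h3, map_add, map_sub, map_sub, map_smul, map_smul, hℓ1, add_zero, smul_eq_mul, smul_eq_mul] at h2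
    linear_combination h2
  let g : R →+* TrivSqZeroExt K K :=
    { toFun := fun z => (((ev x).hom z, ℓ z) : K × K)
      map_one' := by
        have h1 : ℓ (1 : R) = 0 := by
          have := hℓ1 1
          rwa [map_one] at this
        ext
        · exact map_one _
        · exact h1
      map_mul' := fun z w => by
        ext
        · exact map_mul _ _ _
        · refine Eq.trans ?_ (TrivSqZeroExt.snd_mul _ _).symm
          change ℓ (z * w) = (ev x).hom z • ℓ w + (MulOpposite.op ((ev x).hom w)) • ℓ z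
          rw [hmul, op_smul_eq_smul, smul_eq_mul, smul_eq_mul]
      map_zero' := by
        ext
        · exact map_zero _
        · exact map_zero _
      map_add' := fun z w => by
        ext
        · exact map_add _ _ _
        · exact map_add _ _ _ }
  refine ⟨CommRingCat.ofHom g, ?_, ?_, hℓ⟩
  · ext r
    · exact hev r
    · exact hℓ1 r
  · ext z
    rfl

variable [GrpObj X]

theorem eta_comp_pow (n : ℕ) : η[X] ≫ (𝟙 X ^ n) = η[X] := by
  rw [MonObj.comp_pow, Category.comp_id, MonObj.one_eq_one, one_pow]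

/-- In characteristic `p`, `[p]` maps `𝔪` into `𝔪²`. -/
theorem mem_sq (p : ℕ) (hp : (p : K) = 0)
    (φ : X.left.presheaf.stalk (pt η[X]) ⟶ X.left.presheaf.stalk (pt η[X]))
    (hφ : Spec.map φ ≫ X.left.fromSpecStalk (pt η[X]) = X.left.fromSpecStalk (pt η[X]) ≫ (𝟙 X ^ p).left)
    (y : X.left.presheaf.stalk (pt η[X]))
    (hy : y ∈ IsLocalRing.maximalIdeal (X.left.presheaf.stalk (pt η[X]))) :
    φ.hom y ∈ IsLocalRing.maximalIdeal (X.left.presheaf.stalk (pt η[X])) ^ 2 := by
  have hev : φ ≫ ev η[X] = ev η[X] := by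
    apply stalk_ext
    rw [Spec.map_comp, Category.assoc, hφ, Spec_map_ev_assoc, ← Over.comp_left, eta_comp_pow, Spec_map_ev]
  by_contra hcon
  have h0 : (ev η[X]).hom (φ.hom y) = 0 := by
    have h1 : (ev η[X]).hom (φ.hom y) = (ev η[X]).hom y := congr(($hev).hom y)
    rw [h1]
    exact (ev_eq_zero_iff _ y).2 hy
  obtain ⟨g, hg, hfst, hne⟩ := exists_dual η[X] (φ.hom y) h0 hcon
  have h1 := comp_zpow_eq_specTmap_zsmul (ofStalk η[X] g hg) (specT0_ofStalk η[X] g hg hfst) (p : ℤ)
  have h2 : ((p : ℤ) • (LinearMap.id : K →ₗ[K] K)) = 0 := by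
    ext
    simp [hp]
  rw [zpow_natCast, h2, specTmap_zero, Category.assoc, specT0_ofStalk η[X] g hg hfst] at h1
  have h3 := congr(($h1).left)
  rw [Over.comp_left, ofStalk_left, Category.assoc, ← hφ, toUnit_comp_left, ← Spec.map_comp_assoc] at h3
  have h4 := stalk_ext h3
  apply hne
  have h5 : g.hom (φ.hom y) = algebraMap K (TrivSqZeroExt K K) ((ev η[X]).hom y) := congr(($h4).hom y)
  rw [h5, (ev_eq_zero_iff _ y).2 hy, map_zero, TrivSqZeroExt.snd_zero]

/-- `[p^m]` maps `𝔪` into `𝔪^(2^m)`. -/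
theorem exists_iter (p : ℕ) (hp : (p : K) = 0) (m : ℕ) :
    ∃ ψ : X.left.presheaf.stalk (pt η[X]) ⟶ X.left.presheaf.stalk (pt η[X]),
      Spec.map ψ ≫ X.left.fromSpecStalk (pt η[X]) = X.left.fromSpecStalk (pt η[X]) ≫ (𝟙 X ^ (p ^ m)).left ∧
      ∀ y ∈ IsLocalRing.maximalIdeal (X.left.presheaf.stalk (pt η[X])),
        ψ.hom y ∈ IsLocalRing.maximalIdeal (X.left.presheaf.stalk (pt η[X])) ^ (2 ^ m) := by
  obtain ⟨φ, hφ⟩ := exists_stalkEnd η[X] (𝟙 X ^ p) (eta_comp_pow p)
  have hmap : Ideal.map φ.hom (IsLocalRing.maximalIdeal (X.left.presheaf.stalk (pt η[X]))) ≤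
      IsLocalRing.maximalIdeal (X.left.presheaf.stalk (pt η[X])) ^ 2 := by
    rw [Ideal.map_le_iff_le_comap]
    intro y hy
    exact mem_sq p hp φ hφ y hy
  induction m with
  | zero =>
    refine ⟨𝟙 _, ?_, fun y hy => ?_⟩
    · rw [pow_zero, pow_one, Spec.map_id, Category.id_comp, Over.id_left, Category.comp_id]
    · rw [pow_zero, pow_one]
      exact hy
  | succ m ih =>
    obtain ⟨ψ, h1, h2⟩ := ih
    refine ⟨ψ ≫ φ, ?_, fun y hy => ?_⟩
    · rw [Spec.map_comp, Category.assoc, h1, reassoc_of% hφ, ← Over.comp_left]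
      congr 2
      rw [MonObj.comp_pow, Category.comp_id, ← pow_mul, pow_succ, mul_comm]
    · have h3 := h2 y hy
      have h4 : φ.hom (ψ.hom y) ∈ Ideal.map φ.hom
          (IsLocalRing.maximalIdeal (X.left.presheaf.stalk (pt η[X])) ^ (2 ^ m)) :=
        Ideal.mem_map_of_mem _ h3
      rw [Ideal.map_pow] at h4
      have h5 := Ideal.pow_right_mono hmap (2 ^ m) h4
      rw [← pow_mul, ← pow_succ'] at h5
      exact h5

/-- A closed subscheme containing all infinitesimal neighbourhoods of a point of an integral scheme. -/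
theorem surjective_aux {W Z : Scheme.{u}} [IsIntegral W] (c : Z ⟶ W) [IsClosedImmersion c]
    (A : CommRingCat.{u}) [IsLocalRing A] [IsNoetherianRing A] (j : Spec A ⟶ W)
    (hj : genericPoint W ∈ Set.range j)
    (key : ∀ m : ℕ, 0 < m → ∃ s : Spec (CommRingCat.of (A ⧸ IsLocalRing.maximalIdeal A ^ (2 ^ m))) ⟶ Z,
      s ≫ c = Spec.map (CommRingCat.ofHom (Ideal.Quotient.mk (IsLocalRing.maximalIdeal A ^ (2 ^ m)))) ≫ j) :
    Surjective c := by
  have hcl : IsClosedImmersion (pullback.snd c j) := inferInstance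
  obtain ⟨I, e, he⟩ := IsClosedImmersion.Spec_iff.1 hcl
  have hI : I = ⊥ := by
    rw [eq_bot_iff, ← Ideal.iInf_pow_eq_bot_of_isLocalRing (IsLocalRing.maximalIdeal A)
      (IsLocalRing.maximalIdeal.isMaximal A).ne_top]
    intro r hr
    rw [Ideal.mem_iInf]
    intro n
    obtain ⟨s, hs⟩ := key (n + 1) n.succ_pos
    let t : Spec (CommRingCat.of (A ⧸ IsLocalRing.maximalIdeal A ^ (2 ^ (n + 1)))) ⟶ Spec (CommRingCat.of (A ⧸ I)) :=
      pullback.lift s (Spec.map (CommRingCat.ofHom (Ideal.Quotient.mk (IsLocalRing.maximalIdeal A ^ (2 ^ (n + 1)))))) hs ≫ e.hom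
    have ht : t ≫ Spec.map (CommRingCat.ofHom (Ideal.Quotient.mk I)) =
        Spec.map (CommRingCat.ofHom (Ideal.Quotient.mk (IsLocalRing.maximalIdeal A ^ (2 ^ (n + 1))))) := by
      change (_ ≫ e.hom) ≫ _ = _
      rw [Category.assoc, ← he]
      exact pullback.lift_snd _ _ _
    rw [← Spec.map_preimage t, ← Spec.map_comp] at ht
    have h1 := Spec.map_injective ht
    have h2 : (Spec.preimage t).hom (Ideal.Quotient.mk I r) =
        Ideal.Quotient.mk (IsLocalRing.maximalIdeal A ^ (2 ^ (n + 1))) r := congr(($h1).hom r)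
    rw [Ideal.Quotient.eq_zero_iff_mem.2 hr, map_zero] at h2
    have h3 := Ideal.Quotient.eq_zero_iff_mem.1 h2.symm
    exact Ideal.pow_le_pow_right (n.lt_two_pow_self.le.trans (Nat.pow_le_pow_right two_pos n.le_succ)) h3
  have hsurj : Function.Surjective (Spec.map (CommRingCat.ofHom (Ideal.Quotient.mk I))) := by
    subst hI
    have : IsIso (CommRingCat.ofHom (Ideal.Quotient.mk (⊥ : Ideal A))) := by
      rw [ConcreteCategory.isIso_iff_bijective]
      exact ⟨(RingHom.injective_iff_ker_eq_bot _).2 Ideal.mk_ker, Ideal.Quotient.mk_surjective⟩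
    exact (Spec.map (CommRingCat.ofHom (Ideal.Quotient.mk (⊥ : Ideal A)))).surjective
  have hgen : genericPoint W ∈ Set.range c := by
    obtain ⟨a, ha⟩ := hj
    obtain ⟨b, hb⟩ := hsurj a
    obtain ⟨b', rfl⟩ := e.hom.surjective b
    refine ⟨pullback.fst c j b', ?_⟩
    have h1 : c (pullback.fst c j b') = j (pullback.snd c j b') := by
      have := congr($(pullback.condition (f := c) (g := j)) b')
      exact this
    have h2 : pullback.snd c j b' = a := by
      rw [he]
      exact hb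
    rw [h1, h2, ha]
  refine ⟨fun y => ?_⟩
  have hy : genericPoint W ⤳ y := genericPoint_specializes y
  exact hy.mem_closed c.isClosedEmbedding.isClosed_range hgen

/-- **Density of the `p`-power torsion in characteristic `p`.** -/
theorem surjective_of_frob [IsIntegral X.left] [IsLocallyNoetherian X.left] (p : ℕ) (hp : (p : K) = 0)
    (Z : Scheme.{u}) (c : Z ⟶ X.left) [IsClosedImmersion c]
    (hc : ∀ m : ℕ, 0 < m →
      ∃ t : pullback η[X].left ((𝟙 X ^ (p ^ m)).left) ⟶ Z,
        t ≫ c = pullback.snd η[X].left ((𝟙 X ^ (p ^ m)).left)) :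
    Surjective c := by
  refine surjective_aux c (X.left.presheaf.stalk (pt η[X])) (X.left.fromSpecStalk (pt η[X])) ?_ ?_
  · rw [Scheme.range_fromSpecStalk]
    exact genericPoint_specializes _
  intro m hm
  obtain ⟨ψ, h1, h2⟩ := exists_iter (X := X) p hp m
  obtain ⟨t, ht⟩ := hc m hm
  have hfac : ψ ≫ CommRingCat.ofHom (Ideal.Quotient.mk (IsLocalRing.maximalIdeal (X.left.presheaf.stalk (pt η[X])) ^ (2 ^ m))) =
      ev η[X] ≫ kAlg X.hom (pt η[X]) ≫ CommRingCat.ofHom (Ideal.Quotient.mk (IsLocalRing.maximalIdeal (X.left.presheaf.stalk (pt η[X])) ^ (2 ^ m))) := by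
    have hk : kAlg X.hom (pt η[X]) ≫ ψ = kAlg X.hom (pt η[X]) := by
      apply Spec.map_injective
      rw [Spec.map_comp, Spec_map_kAlg, reassoc_of% h1, Over.w]
    ext y
    have hy : y - (kAlg X.hom (pt η[X])).hom ((ev η[X]).hom y) ∈
        IsLocalRing.maximalIdeal (X.left.presheaf.stalk (pt η[X])) := by
      rw [← ev_eq_zero_iff, map_sub]
      have h3 : (ev η[X]).hom ((kAlg X.hom (pt η[X])).hom ((ev η[X]).hom y)) = (ev η[X]).hom y :=
        congr(($(kAlg_ev η[X])).hom ((ev η[X]).hom y))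
      rw [h3, sub_self]
    have h4 := h2 _ hy
    rw [map_sub] at h4
    have h5 : ψ.hom ((kAlg X.hom (pt η[X])).hom ((ev η[X]).hom y)) =
        (kAlg X.hom (pt η[X])).hom ((ev η[X]).hom y) := congr(($hk).hom ((ev η[X]).hom y))
    rw [h5] at h4
    exact Ideal.Quotient.eq.2 h4
  let q : Spec (CommRingCat.of (_ ⧸ (IsLocalRing.maximalIdeal (X.left.presheaf.stalk (pt η[X])) ^ (2 ^ m)))) ⟶ X.left :=
    Spec.map (CommRingCat.ofHom (Ideal.Quotient.mk (IsLocalRing.maximalIdeal (X.left.presheaf.stalk (pt η[X])) ^ (2 ^ m)))) ≫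
      X.left.fromSpecStalk (pt η[X])
  have hq : q ≫ (𝟙 X ^ (p ^ m)).left =
      Spec.map (kAlg X.hom (pt η[X]) ≫ CommRingCat.ofHom (Ideal.Quotient.mk
        (IsLocalRing.maximalIdeal (X.left.presheaf.stalk (pt η[X])) ^ (2 ^ m)))) ≫ η[X].left := by
    refine (Category.assoc _ _ _).trans ?_
    rw [← h1]
    refine (Category.assoc _ _ _).symm.trans ?_
    rw [← Spec.map_comp]
    refine (congrArg (fun w => Spec.map w ≫ X.left.fromSpecStalk (pt η[X])) hfac).trans ?_
    refine (congrArg (· ≫ X.left.fromSpecStalk (pt η[X])) (Spec.map_comp _ _)).trans ?_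
    refine (Category.assoc _ _ _).trans ?_
    rw [Spec_map_ev]
  exact ⟨pullback.lift _ _ hq.symm ≫ t, (Category.assoc _ _ _).trans (by rw [ht]; exact pullback.lift_snd _ _ _)⟩

end K581.TorsDense
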